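import Mathlib
import Groth.Prelude.Def_SGA4a
import Groth.Agent.S6140

/-!
# Transfer of Giraud's exactness axioms along a jointly conservative pair of exact functors
-/

set_option autoImplicit false
set_option linter.unusedSectionVars false
universe w w₁ w₂ u
open CategoryTheory CategoryTheory.Limits Opposite

namespace Groth.Agent.Lib.Helper74.Gluing

section lex

variable {𝒢 : Type w} [Category.{u} 𝒢] {𝒯 : Type w₁} [Category.{u} 𝒯]

/-- left exact functors preserve equivalence relations -/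
lemma isEquivRel_map (U : 𝒢 ⥤ 𝒯) [HasFiniteLimits 𝒢] [HasFiniteLimits 𝒯]
    [PreservesFiniteLimits U] {R A : 𝒢} {p₁ p₂ : R ⟶ A} (h : SGA4.IsEquivRel p₁ p₂) :
    SGA4.IsEquivRel (U.map p₁) (U.map p₂) := by
  obtain ⟨r, hr₁, hr₂⟩ : ∃ r : A ⟶ R, r ≫ p₁ = 𝟙 A ∧ r ≫ p₂ = 𝟙 A := (h A).2.refl (𝟙 A)
  obtain ⟨s, hs₁, hs₂⟩ : ∃ s : R ⟶ R, s ≫ p₁ = p₂ ∧ s ≫ p₂ = p₁ :=
    (h R).2.symm ⟨𝟙 R, Category.id_comp _, Category.id_comp _⟩
  obtain ⟨t, ht₁, ht₂⟩ : ∃ t : pullback p₂ p₁ ⟶ R,
      t ≫ p₁ = pullback.fst p₂ p₁ ≫ p₁ ∧ t ≫ p₂ = pullback.snd p₂ p₁ ≫ p₂ :=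
    (h (pullback p₂ p₁)).2.trans ⟨pullback.fst p₂ p₁, rfl, rfl⟩
      ⟨pullback.snd p₂ p₁, pullback.condition.symm, rfl⟩
  have hm : Mono (prod.lift p₁ p₂) := by
    constructor
    intro T a b hab
    apply (h T).1
    have h1 := congr_arg (· ≫ prod.fst) hab
    have h2 := congr_arg (· ≫ prod.snd) hab
    simp only [Category.assoc, prod.lift_fst, prod.lift_snd] at h1 h2
    exact Prod.ext h1 h2
  have hK : IsPullback (U.map (pullback.fst p₂ p₁)) (U.map (pullback.snd p₂ p₁))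
      (U.map p₂) (U.map p₁) := (IsPullback.of_hasPullback p₂ p₁).map U
  intro T
  refine ⟨?_, ?_, ?_, ?_⟩
  · intro g g' hgg'
    have h1 : g ≫ U.map p₁ = g' ≫ U.map p₁ := congr_arg Prod.fst hgg'
    have h2 : g ≫ U.map p₂ = g' ≫ U.map p₂ := congr_arg Prod.snd hgg'
    have : Mono (U.map (prod.lift p₁ p₂)) := inferInstance
    rw [← cancel_mono (U.map (prod.lift p₁ p₂)), ← cancel_mono (prodComparison U A A)]
    apply Limits.prod.hom_ext
    · simp only [Category.assoc, prodComparison_fst, ← U.map_comp, prod.lift_fst]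
      exact h1
    · simp only [Category.assoc, prodComparison_snd, ← U.map_comp, prod.lift_snd]
      exact h2
  · intro a
    refine ⟨a ≫ U.map r, ?_, ?_⟩
    · rw [Category.assoc, ← U.map_comp, hr₁, U.map_id, Category.comp_id]
    · rw [Category.assoc, ← U.map_comp, hr₂, U.map_id, Category.comp_id]
  · rintro a b ⟨f, ha, hb⟩
    refine ⟨f ≫ U.map s, ?_, ?_⟩
    · rw [Category.assoc, ← U.map_comp, hs₁, hb]
    · rw [Category.assoc, ← U.map_comp, hs₂, ha]
  · rintro a b c ⟨f, ha, hb⟩ ⟨f', hb', hc⟩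
    refine ⟨hK.lift f f' (hb.trans hb'.symm) ≫ U.map t, ?_, ?_⟩
    · rw [Category.assoc, ← U.map_comp, ht₁, U.map_comp, ← Category.assoc, hK.lift_fst, ha]
    · rw [Category.assoc, ← U.map_comp, ht₂, U.map_comp, ← Category.assoc, hK.lift_snd, hc]

/-- postcomposing a cospan with a monomorphism does not change pullbacks -/
lemma isPullback_comp_mono {P X Y Z Z' : 𝒢} {a : P ⟶ X} {b : P ⟶ Y} {c : X ⟶ Z} {d : Y ⟶ Z}
    (h : IsPullback a b c d) (e : Z ⟶ Z') [Mono e] : IsPullback a b (c ≫ e) (d ≫ e) := by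
  refine ⟨⟨by rw [← Category.assoc, h.w, Category.assoc]⟩, ⟨PullbackCone.IsLimit.mk _
    (fun s => h.lift s.fst s.snd ((cancel_mono e).mp (by simpa using s.condition)))
    (fun s => h.lift_fst _ _ _) (fun s => h.lift_snd _ _ _) ?_⟩⟩
  intro s m h1 h2
  apply h.hom_ext
  · rw [h.lift_fst]; exact h1
  · rw [h.lift_snd]; exact h2

end lex

section single

variable {𝒢 : Type w} [Category.{u} 𝒢] {𝒯 : Type w₁} [Category.{u} 𝒯] (U : 𝒢 ⥤ 𝒯)
  [HasFiniteLimits 𝒢] [PreservesFiniteLimits U]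

/-- the image of a coproduct under a functor preserving finite limits and coproducts, with
values in a category with disjoint universal coproducts -/
lemma map_coproduct_facts (hb : SGA4.HasDisjointUniversalCoproducts.{w₁, u} 𝒯)
    {ι : Type u} (X : ι → 𝒢) [PreservesColimit (Discrete.functor X) U]
    (pt : 𝒢) (inj : ∀ k, X k ⟶ pt) (hc : IsColimit (Cofan.mk pt inj)) :
    IsUniversalColimit (U.mapCocone (Cofan.mk pt inj)) ∧ (∀ k, Mono (U.map (inj k))) ∧
      ∀ k l, k ≠ l → Nonempty (IsInitial (U.obj (pullback (inj k) (inj l)))) := by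
  obtain ⟨c', hc', hd, hu⟩ := hb ι (fun k => U.obj (X k))
  have hcolU : IsColimit (Cofan.mk (U.obj pt) fun k => U.map (inj k) : Cofan fun k => U.obj (X k)) :=
    isColimitCofanMkObjOfIsColimit U X inj hc
  refine ⟨?_, ?_, ?_⟩
  · let e : Discrete.functor X ⋙ U ≅ Discrete.functor (fun k => U.obj (X k)) :=
      Discrete.natIso (fun _ => Iso.refl _)
    have h1 := hu.precompose_isIso e.hom
    have hcol1 : IsColimit ((Cocone.precompose e.hom).obj c') :=
      (IsColimit.precomposeHomEquiv e c').symm hc'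
    have hcol2 : IsColimit (U.mapCocone (Cofan.mk pt inj)) := isColimitOfPreserves U hc
    exact h1.of_iso (hcol1.uniqueUpToIso hcol2)
  · intro k
    exact hd.mono_inj hcolU k
  · intro k l hkl
    have hpb := (IsPullback.of_hasPullback (inj k) (inj l)).map U
    exact hd.nonempty_isInitial_of_ne hcolU hkl _ hpb.isLimit

/-- the image of the coequalizer of an equivalence relation under an exact functor with values
in a category with effective universal equivalence relations -/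
lemma map_quotient_facts [HasFiniteLimits 𝒯]
    (hc : ∀ (R A : 𝒯) (p₁ p₂ : R ⟶ A), SGA4.IsEquivRel p₁ p₂ →
      SGA4.IsEffectiveUniversalEquivRel p₁ p₂)
    {R A : 𝒢} {p₁ p₂ : R ⟶ A} [HasCoequalizer p₁ p₂] [PreservesColimit (parallelPair p₁ p₂) U]
    (h : SGA4.IsEquivRel p₁ p₂) :
    IsPullback (U.map p₁) (U.map p₂) (U.map (coequalizer.π p₁ p₂)) (U.map (coequalizer.π p₁ p₂)) ∧
      ∀ (B' : 𝒢) (g : B' ⟶ coequalizer p₁ p₂),
        EffectiveEpi (U.map (pullback.snd (coequalizer.π p₁ p₂) g)) := by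
  have hER := isEquivRel_map U h
  obtain ⟨B₀, π₀, hpb, hpo, heff⟩ := hc _ _ _ _ hER
  have hcol₀ : IsColimit (Cofork.ofπ π₀ hpo.w) := Groth.Agent.S6140.Aux.isColimitCoforkOfIsPushout hpo
  have hcolU := isColimitCoforkMapOfIsColimit U (coequalizer.condition p₁ p₂)
    (coequalizerIsCoequalizer p₁ p₂)
  obtain ⟨e, he⟩ : ∃ e : U.obj (coequalizer p₁ p₂) ≅ B₀, U.map (coequalizer.π p₁ p₂) ≫ e.hom = π₀ :=
    ⟨IsColimit.coconePointUniqueUpToIso hcolU hcol₀,
      IsColimit.comp_coconePointUniqueUpToIso_hom hcolU hcol₀ WalkingParallelPair.one⟩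
  refine ⟨?_, fun B' g => ?_⟩
  · rw [← he] at hpb
    have h2 := isPullback_comp_mono hpb e.inv
    simpa using h2
  · have hq := (IsPullback.of_hasPullback (coequalizer.π p₁ p₂) g).map U
    have h3 := isPullback_comp_mono hq e.hom
    rw [he] at h3
    have := heff _ (U.map g ≫ e.hom)
    have hs : h3.isoPullback.hom ≫ pullback.snd _ _ =
        U.map (pullback.snd (coequalizer.π p₁ p₂) g) := h3.isoPullback_hom_snd
    rw [← hs]
    infer_instance

end single

section transfer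

variable {𝒢 : Type w} [Category.{u} 𝒢] {𝒯₁ : Type w₁} [Category.{u} 𝒯₁]
  {𝒯₂ : Type w₂} [Category.{u} 𝒯₂] (U₁ : 𝒢 ⥤ 𝒯₁) (U₂ : 𝒢 ⥤ 𝒯₂)
  (hiso : ∀ ⦃X Y : 𝒢⦄ (f : X ⟶ Y), IsIso (U₁.map f) → IsIso (U₂.map f) → IsIso f)
  (hfaith : ∀ ⦃X Y : 𝒢⦄ (f g : X ⟶ Y), U₁.map f = U₁.map g → U₂.map f = U₂.map g → f = g)

omit hiso in
include hfaith in
lemma mono_of_map {X Y : 𝒢} (f : X ⟶ Y) (h₁ : Mono (U₁.map f)) (h₂ : Mono (U₂.map f)) :
    Mono f := by
  constructor
  intro Z g g' hgg'
  apply hfaith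
  · rw [← cancel_mono (U₁.map f), ← U₁.map_comp, ← U₁.map_comp, hgg']
  · rw [← cancel_mono (U₂.map f), ← U₂.map_comp, ← U₂.map_comp, hgg']

include hiso in
/-- a jointly conservative pair of functors preserving colimits jointly reflects them -/
noncomputable def isColimit_of_map {J : Type*} [Category J] {F : J ⥤ 𝒢} (c : Cocone F)
    [HasColimit F] [PreservesColimit F U₁] [PreservesColimit F U₂]
    (h₁ : IsColimit (U₁.mapCocone c)) (h₂ : IsColimit (U₂.mapCocone c)) : IsColimit c := by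
  have i₁ : IsIso (U₁.map (colimit.desc F c)) := by
    have hp := isColimitOfPreserves U₁ (colimit.isColimit F)
    have : U₁.map (colimit.desc F c) = (IsColimit.coconePointUniqueUpToIso hp h₁).hom := by
      apply hp.hom_ext
      intro j
      rw [IsColimit.comp_coconePointUniqueUpToIso_hom]
      simp [← U₁.map_comp]
    rw [this]
    infer_instance
  have i₂ : IsIso (U₂.map (colimit.desc F c)) := by
    have hp := isColimitOfPreserves U₂ (colimit.isColimit F)
    have : U₂.map (colimit.desc F c) = (IsColimit.coconePointUniqueUpToIso hp h₂).hom := by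
      apply hp.hom_ext
      intro j
      rw [IsColimit.comp_coconePointUniqueUpToIso_hom]
      simp [← U₂.map_comp]
    rw [this]
    infer_instance
  have : IsIso ((colimit.isColimit F).desc c) := hiso _ i₁ i₂
  exact IsColimit.ofPointIso (colimit.isColimit F)

variable [HasFiniteLimits 𝒢] [PreservesFiniteLimits U₁] [PreservesFiniteLimits U₂]

include hiso hfaith in
/-- a jointly conservative, jointly faithful pair of left exact functors jointly reflects
pullback squares -/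
lemma isPullback_of_map {P X Y Z : 𝒢} {a : P ⟶ X} {b : P ⟶ Y} {c : X ⟶ Z} {d : Y ⟶ Z}
    (h₁ : IsPullback (U₁.map a) (U₁.map b) (U₁.map c) (U₁.map d))
    (h₂ : IsPullback (U₂.map a) (U₂.map b) (U₂.map c) (U₂.map d)) : IsPullback a b c d := by
  have w : a ≫ c = b ≫ d := by
    apply hfaith
    · rw [U₁.map_comp, U₁.map_comp, h₁.w]
    · rw [U₂.map_comp, U₂.map_comp, h₂.w]
  have i₁ : IsIso (U₁.map (pullback.lift a b w)) := by
    have hQ := (IsPullback.of_hasPullback c d).map U₁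
    have : U₁.map (pullback.lift a b w) = (h₁.isoIsPullback _ _ hQ).hom := by
      apply hQ.hom_ext
      · rw [IsPullback.isoIsPullback_hom_fst, ← U₁.map_comp, pullback.lift_fst]
      · rw [IsPullback.isoIsPullback_hom_snd, ← U₁.map_comp, pullback.lift_snd]
    rw [this]
    infer_instance
  have i₂ : IsIso (U₂.map (pullback.lift a b w)) := by
    have hQ := (IsPullback.of_hasPullback c d).map U₂
    have : U₂.map (pullback.lift a b w) = (h₂.isoIsPullback _ _ hQ).hom := by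
      apply hQ.hom_ext
      · rw [IsPullback.isoIsPullback_hom_fst, ← U₂.map_comp, pullback.lift_fst]
      · rw [IsPullback.isoIsPullback_hom_snd, ← U₂.map_comp, pullback.lift_snd]
    rw [this]
    infer_instance
  have : IsIso (pullback.lift a b w) := hiso _ i₁ i₂
  exact IsPullback.of_iso_pullback ⟨w⟩ (asIso (pullback.lift a b w)) (pullback.lift_fst _ _ _)
    (pullback.lift_snd _ _ _)

variable [HasColimitsOfSize.{u, u} 𝒢] [PreservesColimitsOfSize.{u, u} U₁]
  [PreservesColimitsOfSize.{u, u} U₂]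

omit [HasFiniteLimits 𝒢] [PreservesFiniteLimits U₁] [PreservesFiniteLimits U₂] in
include hiso in
/-- initial objects are jointly reflected -/
noncomputable def isInitial_of_map (X : 𝒢) (h₁ : IsInitial (U₁.obj X)) (h₂ : IsInitial (U₂.obj X)) :
    IsInitial X := by
  have i₁ : IsIso (U₁.map (initial.to X)) :=
    isIso_of_isInitial (IsInitial.isInitialObj U₁ _ initialIsInitial) h₁ _
  have i₂ : IsIso (U₂.map (initial.to X)) :=
    isIso_of_isInitial (IsInitial.isInitialObj U₂ _ initialIsInitial) h₂ _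
  have : IsIso (initial.to X) := hiso _ i₁ i₂
  exact IsInitial.ofIso initialIsInitial (asIso (initial.to X))

include hiso hfaith in
/-- axiom (b) of Giraud transfers along a jointly conservative pair of exact functors -/
lemma hasDisjointUniversalCoproducts_of_map
    (hb₁ : SGA4.HasDisjointUniversalCoproducts.{w₁, u} 𝒯₁)
    (hb₂ : SGA4.HasDisjointUniversalCoproducts.{w₂, u} 𝒯₂) :
    SGA4.HasDisjointUniversalCoproducts.{w, u} 𝒢 := by
  intro ι X
  have hc : IsColimit (Cofan.mk (∐ X) (Sigma.ι X)) := coproductIsCoproduct X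
  obtain ⟨hu₁, hm₁, hi₁⟩ := map_coproduct_facts U₁ hb₁ X _ _ hc
  obtain ⟨hu₂, hm₂, hi₂⟩ := map_coproduct_facts U₂ hb₂ X _ _ hc
  refine ⟨Cofan.mk (∐ X) (Sigma.ι X), hc, ?_, ?_⟩
  · have : ∀ k, Mono ((Cofan.mk (∐ X) (Sigma.ι X)).inj k) :=
      fun k => mono_of_map U₁ U₂ hfaith _ (hm₁ k) (hm₂ k)
    refine CoproductDisjoint.of_cofan hc (fun {k l} _ => pullback.cone _ _)
      (fun {k l} _ => pullback.isLimit _ _) (fun {k l} hkl => ?_)
    exact isInitial_of_map U₁ U₂ hiso _ (hi₁ k l hkl).some (hi₂ k l hkl).some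
  · intro F' c' α f h hα H
    refine ⟨isColimit_of_map U₁ U₂ hiso c' ?_ ?_⟩
    · exact (hu₁ (U₁.mapCocone c') (Functor.whiskerRight α U₁) (U₁.map f)
        (by ext j; simpa using! U₁.congr_map (NatTrans.congr_app h j))
        (hα.whiskerRight U₁) (fun j => (H j).map U₁)).some
    · exact (hu₂ (U₂.mapCocone c') (Functor.whiskerRight α U₂) (U₂.map f)
        (by ext j; simpa using! U₂.congr_map (NatTrans.congr_app h j))
        (hα.whiskerRight U₂) (fun j => (H j).map U₂)).some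

include hiso in
/-- effective epimorphisms are jointly reflected -/
lemma effectiveEpi_of_map {P B : 𝒢} (q : P ⟶ B) (h₁ : EffectiveEpi (U₁.map q))
    (h₂ : EffectiveEpi (U₂.map q)) : EffectiveEpi q := by
  have hl₁ := isLimitPullbackConeMapOfIsLimit U₁ _ (pullbackIsPullback q q)
  have hc₁ := isColimitCoforkOfEffectiveEpi (U₁.map q) _ hl₁
  have hl₂ := isLimitPullbackConeMapOfIsLimit U₂ _ (pullbackIsPullback q q)
  have hc₂ := isColimitCoforkOfEffectiveEpi (U₂.map q) _ hl₂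
  have hc : IsColimit (Cofork.ofπ q pullback.condition) :=
    isColimit_of_map U₁ U₂ hiso _
      ((isColimitMapCoconeCoforkEquiv U₁ pullback.condition).symm hc₁)
      ((isColimitMapCoconeCoforkEquiv U₂ pullback.condition).symm hc₂)
  exact effectiveEpi_of_kernelPair q hc

include hiso hfaith in
/-- axiom (c) of Giraud transfers along a jointly conservative pair of exact functors -/
lemma isEffectiveUniversalEquivRel_of_map [HasFiniteLimits 𝒯₁] [HasFiniteLimits 𝒯₂]
    (hc₁ : ∀ (R A : 𝒯₁) (p₁ p₂ : R ⟶ A), SGA4.IsEquivRel p₁ p₂ →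
      SGA4.IsEffectiveUniversalEquivRel p₁ p₂)
    (hc₂ : ∀ (R A : 𝒯₂) (p₁ p₂ : R ⟶ A), SGA4.IsEquivRel p₁ p₂ →
      SGA4.IsEffectiveUniversalEquivRel p₁ p₂)
    (R A : 𝒢) (p₁ p₂ : R ⟶ A) (h : SGA4.IsEquivRel p₁ p₂) :
    SGA4.IsEffectiveUniversalEquivRel p₁ p₂ := by
  obtain ⟨hp₁, he₁⟩ := map_quotient_facts U₁ hc₁ h
  obtain ⟨hp₂, he₂⟩ := map_quotient_facts U₂ hc₂ h
  obtain ⟨r, hr₁, hr₂⟩ : ∃ r : A ⟶ R, r ≫ p₁ = 𝟙 A ∧ r ≫ p₂ = 𝟙 A := (h A).2.refl (𝟙 A)
  exact ⟨coequalizer p₁ p₂, coequalizer.π p₁ p₂, isPullback_of_map U₁ U₂ hiso hfaith hp₁ hp₂,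
    Groth.Agent.S6140.Aux.isPushout_of_isColimit_cofork r hr₁ hr₂ (coequalizer.condition _ _)
      (coequalizerIsCoequalizer _ _),
    fun B' g => effectiveEpi_of_map U₁ U₂ hiso _ (he₁ B' g) (he₂ B' g)⟩

end transfer

end Groth.Agent.Lib.Helper74.Gluing
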