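import Mathlib
import Groth.Prelude.Def_SGA4a
import Groth.Agent.Lib.Helper74.Gluing.Transfer

/-!
# Exactness properties of comma categories
-/

set_option autoImplicit false
set_option linter.unusedSectionVars false
universe w₁ w₂ w₃ u
open CategoryTheory CategoryTheory.Limits Opposite

namespace Groth.Agent.Lib.Helper74.Gluing

section comma

variable {A : Type w₁} [Category.{u} A] {B : Type w₂} [Category.{u} B] {T : Type w₃}
  [Category.{u} T] (L : A ⥤ T) (R : B ⥤ T)

lemma comma_isIso {X Y : Comma L R} (f : X ⟶ Y) (h₁ : IsIso f.left) (h₂ : IsIso f.right) :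
    IsIso f := by
  have : f = (Comma.isoMk (asIso f.left) (asIso f.right) f.w).hom := by
    ext <;> rfl
  rw [this]
  infer_instance

instance comma_preservesLimitsOfShape_fst {J : Type*} [Category J] [HasLimitsOfShape J A]
    [HasLimitsOfShape J B] [PreservesLimitsOfShape J R] :
    PreservesLimitsOfShape J (Comma.fst L R) where
  preservesLimit :=
    preservesLimit_of_preserves_limit_cone
      (Comma.coneOfPreservesIsLimit _ (limit.isLimit _) (limit.isLimit _))
      (limit.isLimit _)

instance comma_preservesLimitsOfShape_snd {J : Type*} [Category J] [HasLimitsOfShape J A]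
    [HasLimitsOfShape J B] [PreservesLimitsOfShape J R] :
    PreservesLimitsOfShape J (Comma.snd L R) where
  preservesLimit :=
    preservesLimit_of_preserves_limit_cone
      (Comma.coneOfPreservesIsLimit _ (limit.isLimit _) (limit.isLimit _))
      (limit.isLimit _)

instance comma_preservesFiniteLimits_fst [HasFiniteLimits A] [HasFiniteLimits B]
    [PreservesFiniteLimits R] : PreservesFiniteLimits (Comma.fst L R) :=
  ⟨fun _ _ _ => inferInstance⟩

instance comma_preservesFiniteLimits_snd [HasFiniteLimits A] [HasFiniteLimits B]
    [PreservesFiniteLimits R] : PreservesFiniteLimits (Comma.snd L R) :=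
  ⟨fun _ _ _ => inferInstance⟩

instance comma_preservesColimitsOfSize_fst [HasColimitsOfSize.{u, u} A] [HasColimitsOfSize.{u, u} B]
    [PreservesColimitsOfSize.{u, u} L] : PreservesColimitsOfSize.{u, u} (Comma.fst L R) :=
  ⟨fun {_} _ => inferInstance⟩

instance comma_preservesColimitsOfSize_snd [HasColimitsOfSize.{u, u} A] [HasColimitsOfSize.{u, u} B]
    [PreservesColimitsOfSize.{u, u} L] : PreservesColimitsOfSize.{u, u} (Comma.snd L R) :=
  ⟨fun {_} _ => inferInstance⟩

end comma

end Groth.Agent.Lib.Helper74.Gluing
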