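import Mathlib

/-!
# Categories of sheaves of sets on small sites are locally presentable
-/

set_option autoImplicit false
set_option linter.unusedSectionVars false
universe u
open CategoryTheory CategoryTheory.Limits Opposite

namespace Groth.Agent.Lib.Helper74.Gluing

/-- a regular cardinal above a small family of cardinals -/
lemma exists_regular_ge {ι : Type u} (κs : ι → Cardinal.{u}) :
    ∃ κ : Cardinal.{u}, κ.IsRegular ∧ ∀ i, κs i ≤ κ := by
  obtain ⟨κ, h₁, h₂⟩ := HasCardinalLT.exists_regular_cardinal_forall.{u}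
    (fun i => (κs i).ord.ToType)
  refine ⟨κ, h₁, fun i => le_of_lt ?_⟩
  simpa [hasCardinalLT_iff_cardinal_mk_lt] using h₂ i

/-- a small family of presentable objects is uniformly presentable -/
lemma exists_regular_isCardinalPresentable {𝒜 : Type (u + 1)} [Category.{u} 𝒜] {ι : Type u}
    (X : ι → 𝒜) (hX : ∀ i, IsPresentable.{u} (X i)) (κ₀ : Cardinal.{u}) :
    ∃ (κ : Cardinal.{u}) (_ : Fact κ.IsRegular), κ₀ ≤ κ ∧ ∀ i, IsCardinalPresentable (X i) κ := by
  have h : ∀ i, ∃ (κ : Cardinal.{u}) (_ : Fact κ.IsRegular), IsCardinalPresentable (X i) κ := by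
    intro i
    obtain ⟨κ, hκ, h⟩ := (hX i).exists_cardinal
    exact ⟨κ, hκ, (isCardinalPresentable_iff_isCardinalAccessible_coyoneda_obj _ _).mpr h⟩
  choose κs hκs hpres using h
  obtain ⟨κ, hκ, hle⟩ := exists_regular_ge (fun o : Option ι => o.elim κ₀ κs)
  have : Fact κ.IsRegular := ⟨hκ⟩
  refine ⟨κ, this, hle none, fun i => ?_⟩
  have := hpres i
  have := hκs i
  have hle' : κs i ≤ κ := hle (some i)
  exact isCardinalPresentable_of_le (X i) hle'

section sheaves

variable {C : Type u} [SmallCategory C] (J : GrothendieckTopology C)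

/-- the small class of inclusions of covering sieves -/
def Wsieve : MorphismProperty (Cᵒᵖ ⥤ Type u) :=
  MorphismProperty.ofHoms
    (fun (i : Σ c : C, {S : Sieve c // S ∈ J c}) => i.2.1.functorInclusion)

instance : MorphismProperty.IsSmall.{u} (Wsieve J) := by
  unfold Wsieve
  infer_instance

lemma isLocal_Wsieve_iff (P : Cᵒᵖ ⥤ Type u) :
    (Wsieve J).isLocal P ↔ Presieve.IsSheaf J P := by
  constructor
  · intro h c S hS
    rw [Presieve.isSheafFor_iff_yonedaSheafCondition]
    intro f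
    exact (h _ (MorphismProperty.ofHoms.mk (⟨c, S, hS⟩ : Σ c : C, {S : Sieve c // S ∈ J c}))).existsUnique f
  · rintro h _ _ _ ⟨⟨c, S, hS⟩⟩
    have := Presieve.isSheafFor_iff_yonedaSheafCondition.mp (h S hS)
    rw [Function.bijective_iff_existsUnique]
    exact this

lemma isLocal_Wsieve_eq : (Wsieve J).isLocal = Presheaf.IsSheaf J (A := Type u) := by
  ext P
  rw [isLocal_Wsieve_iff, isSheaf_iff_isSheaf_of_type]

/-- the category of sheaves of sets on a small site is locally presentable -/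
instance isLocallyPresentable_sheaf : IsLocallyPresentable.{u} (Sheaf J (Type u)) := by
  obtain ⟨κ, hκ, -, hpres⟩ := exists_regular_isCardinalPresentable (𝒜 := Cᵒᵖ ⥤ Type u)
    (ι := (Σ c : C, {S : Sieve c // S ∈ J c}) ⊕ (Σ c : C, {S : Sieve c // S ∈ J c}))
    (fun o => Sum.elim (fun i => i.2.1.functor) (fun i => yoneda.obj i.1) o)
    (fun _ => inferInstance) 0
  have hW : ∀ ⦃X Y : Cᵒᵖ ⥤ Type u⦄ (f : X ⟶ Y), Wsieve J f →
      IsCardinalPresentable X κ ∧ IsCardinalPresentable Y κ := by
    rintro _ _ _ ⟨i⟩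
    exact ⟨hpres (Sum.inl i), hpres (Sum.inr i)⟩
  have h := MorphismProperty.isLocallyPresentable_isLocal (Wsieve J) κ hW
  rw [isLocal_Wsieve_eq] at h
  exact ⟨κ, hκ, h⟩

end sheaves

end Groth.Agent.Lib.Helper74.Gluing
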