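import Mathlib
import Groth.Agent.Lib.Helper74.Gluing.Presentable

/-!
# The solution set condition for accessible functors
-/

set_option autoImplicit false
set_option linter.unusedSectionVars false
universe u
open CategoryTheory CategoryTheory.Limits Opposite

namespace Groth.Agent.Lib.Helper74.Gluing

/-- an accessible functor out of a locally presentable category satisfies the solution set
condition relative to any small family of (presentable) objects of the target -/
lemma exists_solution_set {𝒮 𝒮' : Type (u + 1)} [Category.{u} 𝒮] [Category.{u} 𝒮']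
    [IsLocallyPresentable.{u} 𝒮] [IsAccessibleCategory.{u} 𝒮'] (ρ : 𝒮 ⥤ 𝒮')
    [ρ.IsAccessible.{u}] {ι : Type u} (V : ι → 𝒮') :
    ∃ (P : ObjectProperty 𝒮), ObjectProperty.Small.{u} P ∧
      ∀ (i : ι) (X : 𝒮) (θ : V i ⟶ ρ.obj X),
        ∃ (X₀ : 𝒮) (_ : P X₀) (b : X₀ ⟶ X) (ψ : V i ⟶ ρ.obj X₀), ψ ≫ ρ.map b = θ := by
  obtain ⟨κ₁, hκ₁, hρ⟩ := Functor.IsAccessible.exists_cardinal (F := ρ)
  obtain ⟨κ₂, hκ₂, h𝒮⟩ := IsLocallyPresentable.exists_cardinal.{u} 𝒮
  obtain ⟨κ, hκ, hle, hV⟩ := exists_regular_isCardinalPresentable V (fun _ => inferInstance)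
    (max κ₁ κ₂)
  have h1 : κ₁ ≤ κ := (le_max_left _ _).trans hle
  have h2 : κ₂ ≤ κ := (le_max_right _ _).trans hle
  have := IsCardinalLocallyPresentable.of_le 𝒮 h2
  have := Functor.isCardinalAccessible_of_le ρ h1
  obtain ⟨P, hPsmall, hP⟩ := HasCardinalFilteredGenerator.exists_small_generator 𝒮 κ
  refine ⟨P, hPsmall, fun i X θ => ?_⟩
  obtain ⟨J, _, _, ⟨p⟩⟩ := hP.exists_colimitsOfShape X
  have := ρ.preservesColimitsOfShape_of_isCardinalAccessible κ J
  have hcol := isColimitOfPreserves ρ p.isColimit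
  have := hV i
  obtain ⟨j, ψ, hψ⟩ := IsCardinalPresentable.exists_hom_of_isColimit κ hcol θ
  exact ⟨p.diag.obj j, p.prop_diag_obj j, p.ι.app j, ψ, hψ⟩

end Groth.Agent.Lib.Helper74.Gluing
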