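import Mathlib
import Groth.Prelude.Def_SGA4a
import Groth.Agent.S3081
import Groth.Agent.Lib.Helper74.CanonicalTopos
import Groth.Agent.Lib.Helper74.Gluing.CommaExact
import Groth.Agent.Lib.Helper74.Gluing.SolutionSet

/-!
# The glued category `(Y, X, Y ⟶ ρ X)` satisfies Giraud's axioms
-/

set_option autoImplicit false
set_option linter.unusedSectionVars false
universe u
open CategoryTheory CategoryTheory.Limits Opposite

namespace Groth.Agent.Lib.Helper74.Gluing

open Groth.Agent.Lib.Helper74.CanonicalTopos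

section detect

variable {C : Type u} [SmallCategory C] (J : GrothendieckTopology C)

/-- the sheafified representables detect isomorphisms -/
lemma isIso_of_gen_bijective {X₁ X₂ : Sheaf J (Type u)} (g : X₁ ⟶ X₂)
    (h : ∀ (T : C) (t : (gen J).obj T ⟶ X₂), ∃! t' : (gen J).obj T ⟶ X₁, t' ≫ g = t) :
    IsIso g := by
  have hb : ∀ T : Cᵒᵖ, Function.Bijective (g.hom.app T) := by
    rintro ⟨T⟩
    constructor
    · intro z₁ z₂ hz
      obtain ⟨t', -, hu⟩ := h T ((secEquiv J X₂ T).symm (g.hom.app (op T) z₁))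
      have e1 := hu ((secEquiv J X₁ T).symm z₁) (secEquiv_symm_comp J T z₁ g)
      have e2 := hu ((secEquiv J X₁ T).symm z₂) (by
        change (secEquiv J X₁ T).symm z₂ ≫ g = _
        rw [secEquiv_symm_comp, hz])
      exact (secEquiv J X₁ T).symm.injective (e1.trans e2.symm)
    · intro z
      obtain ⟨t', ht', -⟩ := h T ((secEquiv J X₂ T).symm z)
      refine ⟨secEquiv J X₁ T t', ?_⟩
      rw [← secEquiv_comp, ht', Equiv.apply_symm_apply]
  have h1 : IsIso g.hom := by
    have : ∀ T, IsIso (g.hom.app T) := fun T => (isIso_iff_bijective _).mpr (hb T)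
    exact NatIso.isIso_of_isIso_app _
  have h2 : IsIso ((sheafToPresheaf J (Type u)).map g) := h1
  exact isIso_of_reflects_iso g (sheafToPresheaf J (Type u))

end detect

section glued

variable {C D : Type u} [SmallCategory C] [SmallCategory D] (J : GrothendieckTopology C)
  (K : GrothendieckTopology D) (ρ : Sheaf J (Type u) ⥤ Sheaf K (Type u))

/-- the glued category of triples `(Y, X, Y ⟶ ρ X)` -/
abbrev Glued := Comma (𝟭 (Sheaf K (Type u))) ρ

lemma glued_hiso ⦃X Y : Glued J K ρ⦄ (f : X ⟶ Y) (h₁ : IsIso ((Comma.fst _ _).map f))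
    (h₂ : IsIso ((Comma.snd _ _).map f)) : IsIso f :=
  comma_isIso _ _ f h₁ h₂

lemma glued_hfaith ⦃X Y : Glued J K ρ⦄ (f g : X ⟶ Y)
    (h₁ : (Comma.fst _ _).map f = (Comma.fst _ _).map g)
    (h₂ : (Comma.snd _ _).map f = (Comma.snd _ _).map g) : f = g :=
  CommaMorphism.ext h₁ h₂

section exact

variable [PreservesFiniteLimits ρ]

theorem glued_axiom_b : SGA4.HasDisjointUniversalCoproducts.{u + 1, u} (Glued J K ρ) := by
  have h1 : HasColimitsOfSize.{u, u} (Sheaf K (Type u)) :=
    CategoryTheory.Sheaf.instHasColimitsOfSize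
  have h2 : HasColimitsOfSize.{u, u} (Sheaf J (Type u)) :=
    CategoryTheory.Sheaf.instHasColimitsOfSize
  exact hasDisjointUniversalCoproducts_of_map.{u + 1, u + 1, u + 1, u} (Comma.fst _ _) (Comma.snd _ _) (glued_hiso J K ρ)
    (glued_hfaith J K ρ) (Groth.Agent.S3081.result K).1 (Groth.Agent.S3081.result J).1

theorem glued_axiom_c (R A : Glued J K ρ) (p₁ p₂ : R ⟶ A) (h : SGA4.IsEquivRel p₁ p₂) :
    SGA4.IsEffectiveUniversalEquivRel p₁ p₂ := by
  have h1 : HasColimitsOfSize.{u, u} (Sheaf K (Type u)) :=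
    CategoryTheory.Sheaf.instHasColimitsOfSize
  have h2 : HasColimitsOfSize.{u, u} (Sheaf J (Type u)) :=
    CategoryTheory.Sheaf.instHasColimitsOfSize
  exact isEffectiveUniversalEquivRel_of_map.{u + 1, u + 1, u + 1, u} (Comma.fst _ _) (Comma.snd _ _) (glued_hiso J K ρ)
    (glued_hfaith J K ρ) (Groth.Agent.S3081.result K).2 (Groth.Agent.S3081.result J).2 R A p₁ p₂ h

end exact

section generators

/-- generators of the first kind: `(∅, a y(c), -)` -/
noncomputable def genObj₁ (hI : HasInitial (Sheaf K (Type u))) (c : C) : Glued J K ρ where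
  left := ⊥_ _
  right := (gen J).obj c
  hom := initial.to _

/-- generators of the second kind: `(a y(d), X₀, ψ)` -/
noncomputable def genObj₂ (d : D) (X₀ : Sheaf J (Type u)) (ψ : (gen K).obj d ⟶ ρ.obj X₀) :
    Glued J K ρ where
  left := (gen K).obj d
  right := X₀
  hom := ψ

/-- maps out of generators of the first kind -/
noncomputable def homOfGen₁ (hI : HasInitial (Sheaf K (Type u))) (c : C) (Y : Glued J K ρ)
    (t : (gen J).obj c ⟶ Y.right) : genObj₁ J K ρ hI c ⟶ Y where
  left := initial.to _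
  right := t
  w := initialIsInitial.hom_ext _ _

variable [ρ.IsAccessible.{u}]

theorem glued_axiom_d :
    ∃ P : ObjectProperty (Glued J K ρ), ObjectProperty.Small.{u} P ∧ P.IsDetecting := by
  have hI : HasInitial (Sheaf K (Type u)) := CategoryTheory.Sheaf.instHasColimitsOfShape
  obtain ⟨P₀, hP₀, hsol⟩ := exists_solution_set ρ (fun d : D => (gen K).obj d)
  let g₁ : C → Glued J K ρ := genObj₁ J K ρ hI
  let g₂ : (Σ (d : D) (X₀ : Subtype P₀), ((gen K).obj d ⟶ ρ.obj X₀.1)) → Glued J K ρ :=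
    fun x => genObj₂ J K ρ x.1 x.2.1.1 x.2.2
  refine ⟨ObjectProperty.ofObj g₁ ⊔ ObjectProperty.ofObj g₂, inferInstance, ?_⟩
  intro X Y f hf
  have hright : IsIso f.right := by
    apply isIso_of_gen_bijective J
    intro c t
    obtain ⟨h', hh', hu⟩ := hf _ (Or.inl (ObjectProperty.ofObj_apply g₁ c)) (homOfGen₁ J K ρ hI c Y t)
    refine ⟨h'.right, congr_arg CommaMorphism.right hh', ?_⟩
    intro t' ht'
    have h3 : homOfGen₁ J K ρ hI c X t' ≫ f = homOfGen₁ J K ρ hI c Y t := by
      apply CommaMorphism.ext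
      · exact (initialIsInitial (C := Sheaf K (Type u))).hom_ext _ _
      · exact ht'
    exact congr_arg CommaMorphism.right (hu _ h3)
  have hleft : IsIso f.left := by
    apply isIso_of_gen_bijective K
    intro d a'
    obtain ⟨X₀, hX₀, b, ψ, hψ⟩ := hsol d Y.right (a' ≫ Y.hom)
    let h : genObj₂ J K ρ d X₀ ψ ⟶ Y := { left := a', right := b, w := hψ.symm }
    obtain ⟨h', hh', hu⟩ := hf _ (Or.inr (ObjectProperty.ofObj_apply g₂ ⟨d, ⟨X₀, hX₀⟩, ψ⟩)) h
    refine ⟨h'.left, congr_arg CommaMorphism.left hh', ?_⟩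
    intro a₁ ha₁
    have hfw : f.left ≫ Y.hom = X.hom ≫ ρ.map f.right := f.w
    have w₁ : a₁ ≫ X.hom = ψ ≫ ρ.map (b ≫ inv f.right) := by
      have e1 : ρ.map f.right ≫ ρ.map (inv f.right) = 𝟙 _ := by
        rw [← ρ.map_comp, IsIso.hom_inv_id, ρ.map_id]
      calc a₁ ≫ X.hom = a₁ ≫ X.hom ≫ ρ.map f.right ≫ ρ.map (inv f.right) := by
            rw [e1, Category.comp_id]
        _ = (a₁ ≫ f.left) ≫ Y.hom ≫ ρ.map (inv f.right) := by
            rw [← Category.assoc X.hom, ← hfw]
            simp only [Category.assoc]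
        _ = (a' ≫ Y.hom) ≫ ρ.map (inv f.right) := by rw [ha₁, Category.assoc]
        _ = ψ ≫ ρ.map (b ≫ inv f.right) := by rw [← hψ, Category.assoc, ← ρ.map_comp]
    let k : genObj₂ J K ρ d X₀ ψ ⟶ X := { left := a₁, right := b ≫ inv f.right, w := w₁ }
    have h3 : k ≫ f = h := by
      apply CommaMorphism.ext
      · exact ha₁
      · change (b ≫ inv f.right) ≫ f.right = b
        rw [Category.assoc, IsIso.inv_hom_id, Category.comp_id]
    exact congr_arg CommaMorphism.left (hu _ h3)
  exact comma_isIso _ _ f hleft hright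

end generators

end glued

end Groth.Agent.Lib.Helper74.Gluing
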